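import Cfsg.Agent.H911.AdF
import Cfsg.Agent.Prune
set_option linter.all false
prune_inst 0x7fffb9fbfbfdffdfdfff7fffafdfdffdfdbfbfffe6fffdcbffea69ffbbdf7f8acdcd6f8d8ffa93fe1ff7eb3494fa7b53fffffeffe86ffc7ffffdfff41ffbffdfedf7b508519e8cb40fbc2ff703f0778e7f3fffffffffffffffffffffffffffbeffbfffffffff
open scoped Cfsg.Agent.FastGrp

-- part: H911/AdMod
section
/-!
# The adjoint module of `SL(3, E)` (helper911)

`M k = sl_3(k) / (scalars)`, the group `SL(3, E)` acts by conjugation through `σ : E → k`.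
-/

set_option autoImplicit false
set_option linter.unusedSectionVars false
set_option linter.unusedVariables false

namespace Cfsg.Agent.H911.Ad.Mo

open Matrix

section defs

variable (k : Type*) [Field k]

/-- the matrices of trace zero -/
def S : Submodule k (Matrix (Fin 3) (Fin 3) k) := LinearMap.ker (Matrix.traceLinearMap (Fin 3) k k)

/-- the scalars of trace zero -/
def Z : Submodule k (S k) := (Submodule.span k {(1 : Matrix (Fin 3) (Fin 3) k)}).comap (S k).subtype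

/-- the adjoint module -/
abbrev M := S k ⧸ Z k

end defs

variable {k : Type*} [Field k] {E : Type*} [Field E]

theorem mem_S {X : Matrix (Fin 3) (Fin 3) k} : X ∈ S k ↔ X.trace = 0 := Iff.rfl

theorem mem_Z {X : S k} : X ∈ Z k ↔ ∃ a : k, a • (1 : Matrix (Fin 3) (Fin 3) k) = X := by
  unfold Z
  rw [Submodule.mem_comap, Submodule.mem_span_singleton]
  rfl

/-- the class -/
def mk : S k →ₗ[k] M k := (Z k).mkQ

theorem mk_surj (v : M k) : ∃ X, mk X = v := Submodule.Quotient.mk_surjective _ v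

theorem mk_eq_zero {X : S k} : mk X = 0 ↔ ∃ a : k, a • (1 : Matrix (Fin 3) (Fin 3) k) = X := by
  rw [← mem_Z]
  exact Submodule.Quotient.mk_eq_zero _

variable (σ : E →+* k)

/-- the matrix of `g` over `k` -/
def mp (g : _root_.Matrix.SpecialLinearGroup (Fin 3) E) : Matrix (Fin 3) (Fin 3) k := g.1.map σ

theorem mp_one : mp σ 1 = 1 := Matrix.map_one σ (map_zero σ) (map_one σ)

theorem mp_mul (g g' : _root_.Matrix.SpecialLinearGroup (Fin 3) E) : mp σ (g * g') = mp σ g * mp σ g' := by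
  unfold mp
  rw [show (g * g').1 = g.1 * g'.1 from rfl, Matrix.map_mul]

theorem mp_inv_mul (g : _root_.Matrix.SpecialLinearGroup (Fin 3) E) : mp σ g⁻¹ * mp σ g = 1 := by
  rw [← mp_mul, inv_mul_cancel, mp_one]

theorem mp_mul_inv (g : _root_.Matrix.SpecialLinearGroup (Fin 3) E) : mp σ g * mp σ g⁻¹ = 1 := by
  rw [← mp_mul, mul_inv_cancel, mp_one]

theorem trace_conj (g : _root_.Matrix.SpecialLinearGroup (Fin 3) E) (X : Matrix (Fin 3) (Fin 3) k) :
    (mp σ g * X * mp σ g⁻¹).trace = X.trace := by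
  rw [Matrix.trace_mul_comm, ← Matrix.mul_assoc, mp_inv_mul, Matrix.one_mul]

/-- conjugation on `sl_3` -/
def adS (g : _root_.Matrix.SpecialLinearGroup (Fin 3) E) : S k →ₗ[k] S k where
  toFun X := ⟨mp σ g * X.1 * mp σ g⁻¹, by
    rw [mem_S, trace_conj]; exact X.2⟩
  map_add' X Y := by
    apply Subtype.ext
    change mp σ g * (X.1 + Y.1) * mp σ g⁻¹ = mp σ g * X.1 * mp σ g⁻¹ + mp σ g * Y.1 * mp σ g⁻¹
    rw [Matrix.mul_add, Matrix.add_mul]
  map_smul' a X := by
    apply Subtype.ext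
    change mp σ g * (a • X.1) * mp σ g⁻¹ = a • (mp σ g * X.1 * mp σ g⁻¹)
    rw [Matrix.mul_smul, Matrix.smul_mul]

theorem adS_val (g : _root_.Matrix.SpecialLinearGroup (Fin 3) E) (X : S k) : (adS σ g X).1 = mp σ g * X.1 * mp σ g⁻¹ := rfl

theorem adS_Z (g : _root_.Matrix.SpecialLinearGroup (Fin 3) E) : Z k ≤ (Z k).comap (adS σ g) := by
  intro X hX
  rw [Submodule.mem_comap, mem_Z]
  obtain ⟨a, ha⟩ := mem_Z.1 hX
  refine ⟨a, ?_⟩
  rw [adS_val, ← ha, Matrix.mul_smul, Matrix.smul_mul, Matrix.mul_one, mp_mul_inv]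

/-- the adjoint representation -/
def ad : _root_.Matrix.SpecialLinearGroup (Fin 3) E →* Module.End k (M k) where
  toFun g := (Z k).mapQ (Z k) (adS σ g) (adS_Z σ g)
  map_one' := by
    refine LinearMap.ext fun v => ?_
    obtain ⟨X, rfl⟩ := mk_surj v
    change mk (adS σ 1 X) = mk X
    congr 1
    apply Subtype.ext
    rw [adS_val, inv_one, mp_one, Matrix.one_mul, Matrix.mul_one]
  map_mul' g g' := by
    refine LinearMap.ext fun v => ?_
    obtain ⟨X, rfl⟩ := mk_surj v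
    change mk (adS σ (g * g') X) = mk (adS σ g (adS σ g' X))
    (with_reducible congr 1)
    apply Subtype.ext
    rw [adS_val, adS_val, adS_val, _root_.mul_inv_rev, mp_mul, mp_mul]
    simp only [Matrix.mul_assoc]

theorem ad_mk (g : _root_.Matrix.SpecialLinearGroup (Fin 3) E) (X : S k) : ad σ g (mk X) = mk (adS σ g X) := rfl

/-! ### elementary matrices -/

/-- the elementary matrix `E_ij`, `i ≠ j`, in `sl_3` -/
def e (k : Type*) [Field k] {i j : Fin 3} (hij : i ≠ j) : S k := ⟨Matrix.single i j 1, by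
  rw [mem_S, Matrix.trace_single_eq_of_ne _ _ _ hij]⟩

/-- `E_jj - E_ii` -/
def d (k : Type*) [Field k] (i j : Fin 3) : S k := ⟨Matrix.single j j 1 - Matrix.single i i 1, by
  rw [mem_S, Matrix.trace_sub, Matrix.trace_single_eq_same, Matrix.trace_single_eq_same, sub_self]⟩

open Cfsg.Agent.TitsThree.KSideA (tv tv_of_ne tv_add tv_zero tv_neg)
open Cfsg.Agent.Nodes.RGDTypeA (tv_val)

theorem mp_tv {i j : Fin 3} (hij : i ≠ j) (t : E) : mp σ (tv i j t) = 1 + Matrix.single i j (σ t) := by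
  unfold mp
  rw [tv_val hij]
  ext a b
  simp only [Matrix.map_apply, Matrix.add_apply, Matrix.one_apply, Matrix.single_apply, map_add]
  split_ifs <;> simp only [_root_.map_one, _root_.map_zero, _root_.add_zero, _root_.zero_add]

theorem mp_tv_inv {i j : Fin 3} (hij : i ≠ j) (t : E) : mp σ (tv i j t)⁻¹ = 1 - Matrix.single i j (σ t) := by
  have h1 : (tv i j t)⁻¹ = tv i j (-t) := by
    rw [inv_eq_iff_mul_eq_one, ← tv_add, add_neg_cancel, tv_zero]
  rw [h1, mp_tv σ hij, map_neg, sub_eq_add_neg]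
  congr 1
  ext a b
  simp only [Matrix.single_apply, Matrix.neg_apply]
  split_ifs <;> simp

/-- the action of `1 + E_ij` -/
theorem adS_tv {i j : Fin 3} (hij : i ≠ j) (X : S k) : (adS σ (tv i j 1) X).1 =
    X.1 + Matrix.single i j 1 * X.1 - X.1 * Matrix.single i j 1 - Matrix.single i j 1 * X.1 * Matrix.single i j 1 := by
  rw [adS_val, mp_tv σ hij, mp_tv_inv σ hij, map_one]
  noncomm_ring

theorem adS_e {i j : Fin 3} (hij : i ≠ j) : adS σ (tv j i 1) (e k hij) = e k hij + d k i j - e k hij.symm := by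
  apply Subtype.ext
  rw [adS_tv σ hij.symm]
  change _ = Matrix.single i j 1 + (Matrix.single j j 1 - Matrix.single i i 1) - Matrix.single j i 1
  change Matrix.single i j 1 + Matrix.single j i 1 * Matrix.single i j 1 - Matrix.single i j 1 * Matrix.single j i 1 -
    Matrix.single j i 1 * Matrix.single i j 1 * Matrix.single j i 1 = _
  simp only [Matrix.single_mul_single_same, mul_one]
  abel

theorem adS_d {i j : Fin 3} (hij : i ≠ j) : adS σ (tv i j 1) (d k i j) = d k i j + (2 : k) • e k hij := by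
  apply Subtype.ext
  rw [adS_tv σ hij]
  change (Matrix.single j j 1 - Matrix.single i i 1) + Matrix.single i j 1 * (Matrix.single j j 1 - Matrix.single i i 1) -
    (Matrix.single j j 1 - Matrix.single i i 1) * Matrix.single i j 1 -
    Matrix.single i j 1 * (Matrix.single j j 1 - Matrix.single i i 1) * Matrix.single i j 1 =
      (Matrix.single j j 1 - Matrix.single i i 1) + (2 : k) • Matrix.single i j (1 : k)
  rw [Matrix.mul_sub, Matrix.sub_mul, Matrix.sub_mul]
  simp only [Matrix.single_mul_single_same, mul_one, Matrix.single_mul_single_of_ne _ _ _ _ hij.symm, sub_zero, zero_sub]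
  rw [two_smul, Matrix.zero_mul]
  abel

theorem adS_e' {i j : Fin 3} (hij : i ≠ j) : adS σ (tv i j 1) (e k hij.symm) = e k hij.symm - d k i j - e k hij := by
  have h1 := adS_e (k := k) σ hij.symm
  have h2 : d k j i = - d k i j := by
    apply Subtype.ext
    change Matrix.single i i 1 - Matrix.single j j 1 = -(Matrix.single j j 1 - Matrix.single i i (1 : k))
    abel
  rw [h1, h2]
  abel

theorem mk_eq_of {X Y : S k} (a : k) (h : X.1 = Y.1 + a • (1 : Matrix (Fin 3) (Fin 3) k)) : mk X = mk Y := by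
  rw [← sub_eq_zero, ← map_sub, mk_eq_zero]
  refine ⟨a, ?_⟩
  change a • (1 : Matrix (Fin 3) (Fin 3) k) = X.1 - Y.1
  rw [h, add_sub_cancel_left]

/-- a submodule with `ε_ij` contains `δ_ij`, `ε_ji` -/
theorem pair_mem {L : Submodule k (M k)} (hL : ∀ g, ∀ v ∈ L, ad σ g v ∈ L) {i j : Fin 3} (hij : i ≠ j)
    (h : mk (e k hij) ∈ L) : mk (d k i j) ∈ L ∧ mk (e k hij.symm) ∈ L := by
  have h1 : mk (d k i j) - mk (e k hij.symm) ∈ L := by
    have h2 := hL (tv j i 1) _ h
    rw [ad_mk, adS_e σ hij, map_sub, map_add] at h2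
    have h3 := (L.sub_mem h2 h :)
    have e1 : mk (e k hij) + mk (d k i j) - mk (e k hij.symm) - mk (e k hij) = mk (d k i j) - mk (e k hij.symm) := by
      abel
    rwa [e1] at h3
  have h4 : mk (d k i j) ∈ L := by
    have h2 := hL (tv i j 1) _ h1
    rw [map_sub, ad_mk, ad_mk, adS_d σ hij, adS_e' σ hij, map_sub, map_sub, map_add, map_smul] at h2
    have h3 := L.sub_mem (L.sub_mem h2 h1) (L.smul_mem (3 : k) h)
    have e1 : mk (d k i j) + (2 : k) • mk (e k hij) - (mk (e k hij.symm) - mk (d k i j) - mk (e k hij)) -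
        (mk (d k i j) - mk (e k hij.symm)) - (3 : k) • mk (e k hij) = mk (d k i j) := by
      module
    rwa [e1] at h3
  refine ⟨h4, ?_⟩
  have h5 := (L.sub_mem h4 h1 :)
  rwa [sub_sub_cancel] at h5

theorem gen_top {L : Submodule k (M k)} (hL : ∀ g, ∀ v ∈ L, ad σ g v ∈ L)
    (h : mk (e k (show (0 : Fin 3) ≠ 2 by decide)) ∈ L) : L = ⊤ := by
  have h01 : mk (e k (show (0 : Fin 3) ≠ 1 by decide)) ∈ L := by
    have h2 := hL (tv 2 1 1) _ h
    have e1 : adS σ (tv 2 1 1) (e k (show (0 : Fin 3) ≠ 2 by decide)) =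
        e k (show (0 : Fin 3) ≠ 2 by decide) - e k (show (0 : Fin 3) ≠ 1 by decide) := by
      apply Subtype.ext
      rw [adS_tv σ (by decide)]
      change Matrix.single 0 2 1 + Matrix.single 2 1 1 * Matrix.single 0 2 1 - Matrix.single 0 2 1 * Matrix.single 2 1 1 -
        Matrix.single 2 1 1 * Matrix.single 0 2 1 * Matrix.single 2 1 1 = Matrix.single 0 2 (1 : k) - Matrix.single 0 1 1
      simp [Matrix.single_mul_single_same, Matrix.single_mul_single_of_ne]
    rw [ad_mk, e1, map_sub] at h2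
    have h3 := (L.sub_mem h h2 :)
    rwa [sub_sub_cancel] at h3
  have h12 : mk (e k (show (1 : Fin 3) ≠ 2 by decide)) ∈ L := by
    have h2 := hL (tv 1 0 1) _ h
    have e1 : adS σ (tv 1 0 1) (e k (show (0 : Fin 3) ≠ 2 by decide)) =
        e k (show (0 : Fin 3) ≠ 2 by decide) + e k (show (1 : Fin 3) ≠ 2 by decide) := by
      apply Subtype.ext
      rw [adS_tv σ (by decide)]
      change Matrix.single 0 2 1 + Matrix.single 1 0 1 * Matrix.single 0 2 1 - Matrix.single 0 2 1 * Matrix.single 1 0 1 -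
        Matrix.single 1 0 1 * Matrix.single 0 2 1 * Matrix.single 1 0 1 = Matrix.single 0 2 (1 : k) + Matrix.single 1 2 1
      simp [Matrix.single_mul_single_same, Matrix.single_mul_single_of_ne]
    rw [ad_mk, e1, map_add] at h2
    have h3 := L.sub_mem h2 h
    rwa [add_sub_cancel_left] at h3
  obtain ⟨d01, e10⟩ := pair_mem σ hL _ h01
  obtain ⟨d12, e21⟩ := pair_mem σ hL _ h12
  obtain ⟨d02, e20⟩ := pair_mem σ hL _ h
  rw [eq_top_iff]
  rintro v -
  obtain ⟨X, rfl⟩ := mk_surj v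
  have htr : X.1 0 0 + X.1 1 1 + X.1 2 2 = 0 := by
    have := X.2
    rw [mem_S, Matrix.trace_fin_three] at this
    exact this
  have e1 : X = X.1 0 1 • e k (show (0 : Fin 3) ≠ 1 by decide) + X.1 0 2 • e k (show (0 : Fin 3) ≠ 2 by decide) +
      X.1 1 2 • e k (show (1 : Fin 3) ≠ 2 by decide) + X.1 1 0 • e k (show (1 : Fin 3) ≠ 0 by decide) +
      X.1 2 0 • e k (show (2 : Fin 3) ≠ 0 by decide) + X.1 2 1 • e k (show (2 : Fin 3) ≠ 1 by decide) +
      (-X.1 0 0) • d k 0 1 + (X.1 2 2) • d k 1 2 := by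
    apply Subtype.ext
    change X.1 = X.1 0 1 • Matrix.single 0 1 1 + X.1 0 2 • Matrix.single 0 2 1 + X.1 1 2 • Matrix.single 1 2 1 +
      X.1 1 0 • Matrix.single 1 0 1 + X.1 2 0 • Matrix.single 2 0 1 + X.1 2 1 • Matrix.single 2 1 1 +
      (-X.1 0 0) • (Matrix.single 1 1 1 - Matrix.single 0 0 1) + X.1 2 2 • (Matrix.single 2 2 1 - Matrix.single 1 1 1)
    ext i j
    (revert i j; simp only [_root_.Fin.forall_fin_succ, Fin.isValue, _root_.Matrix.smul_single, _root_.smul_eq_mul, _root_.mul_one, _root_.neg_smul, _root_.Matrix.add_apply, _root_.Matrix.neg_apply, _root_.Matrix.smul_apply, _root_.Matrix.sub_apply, _root_.one_ne_zero, _root_.and_false, _root_.not_false_eq_true, _root_.Matrix.single_apply_of_ne, Fin.reduceEq, _root_.add_zero, _root_.zero_add, _root_.zero_sub, _root_.mul_neg, _root_.neg_neg, _root_.sub_self, _root_.MulZeroClass.mul_zero, _root_.Fin.succ_zero_eq_one, _root_.zero_ne_one, _root_.sub_zero, _root_.Fin.succ_one_eq_two,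 _root_.neg_zero, _root_.IsEmpty.forall_iff, _root_.Matrix.single_apply_same, _root_.and_true, _root_.true_and]) <;> (repeat' with_reducible apply And.intro)
    linear_combination htr
  rw [e1]
  simp only [map_add, map_smul]
  exact L.add_mem (L.add_mem (L.add_mem (L.add_mem (L.add_mem (L.add_mem (L.add_mem (L.smul_mem _ h01)
    (L.smul_mem _ h)) (L.smul_mem _ h12)) (L.smul_mem _ e10)) (L.smul_mem _ e20)) (L.smul_mem _ e21))
    (L.smul_mem _ d01)) (L.smul_mem _ d12)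

/-- the fixed vectors of the unitriangular group -/
theorem fix_eq {X : S k} (h1 : ad σ (tv 0 1 1) (mk X) = mk X) (h2 : ad σ (tv 1 2 1) (mk X) = mk X) :
    mk X = X.1 0 2 • mk (e k (show (0 : Fin 3) ≠ 2 by decide)) := by
  have key : ∀ {i j : Fin 3} (hij : i ≠ j), ad σ (tv i j 1) (mk X) = mk X →
      ∃ a : k, Matrix.single i j 1 * X.1 - X.1 * Matrix.single i j 1 = a • (1 + Matrix.single i j 1) := by
    intro i j hij h
    rw [ad_mk, ← sub_eq_zero, ← map_sub, mk_eq_zero] at h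
    obtain ⟨a, ha⟩ := h
    refine ⟨a, ?_⟩
    have h3 : a • (1 : Matrix (Fin 3) (Fin 3) k) = (1 + Matrix.single i j 1) * X.1 * (1 - Matrix.single i j 1) - X.1 := by
      rw [ha]
      change mp σ (tv i j 1) * X.1 * mp σ (tv i j 1)⁻¹ - X.1 = _
      rw [mp_tv σ hij, mp_tv_inv σ hij, map_one]
    have h4 : (1 - Matrix.single i j (1 : k)) * (1 + Matrix.single i j 1) = 1 := by
      rw [Matrix.sub_mul, Matrix.one_mul, Matrix.mul_add, Matrix.mul_one,
        Matrix.single_mul_single_of_ne _ _ _ _ hij.symm, add_zero, add_sub_cancel_right]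
    have h5 : a • (1 + Matrix.single i j (1 : k)) = (a • (1 : Matrix (Fin 3) (Fin 3) k)) * (1 + Matrix.single i j 1) := by
      rw [Matrix.smul_mul, Matrix.one_mul]
    rw [h5, h3, Matrix.sub_mul, Matrix.mul_assoc ((1 + Matrix.single i j 1) * X.1), h4]
    noncomm_ring
  obtain ⟨a, ha⟩ := key (by decide) h1
  obtain ⟨b, hb⟩ := key (by decide) h2
  have a22 := congrFun (congrFun ha 2) 2
  have a00 := congrFun (congrFun ha 0) 0
  have a01 := congrFun (congrFun ha 0) 1
  have a02 := congrFun (congrFun ha 0) 2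
  have a21 := congrFun (congrFun ha 2) 1
  have b00 := congrFun (congrFun hb 0) 0
  have b02 := congrFun (congrFun hb 0) 2
  have b12 := congrFun (congrFun hb 1) 2
  have b11 := congrFun (congrFun hb 1) 1
  have b10 := congrFun (congrFun hb 1) 0
  simp only [Matrix.mul_apply, Matrix.single_apply, _root_.Fin.isValue, _root_.Matrix.sub_apply, _root_.Fin.reduceEq, _root_.false_and, _root_.not_false_eq_true, _root_.Matrix.single_apply_of_ne, _root_.MulZeroClass.zero_mul, _root_.Finset.sum_const_zero, _root_.and_false, _root_.MulZeroClass.mul_zero, _root_.sub_self, _root_.Matrix.smul_apply, _root_.Matrix.add_apply, _root_.Matrix.one_apply_eq, _root_.and_self, _root_.add_zero, _root_.smul_eq_mul, _root_.mul_one, _root_.true_and, _root_.ite_mul, _root_.one_mul, _root_.Finset.sum_ite_eq, _root_.Finset.mem_univ, ↓ _root_.reduceIte, _root_.one_ne_zero, _root_.sub_zero, _root_.and_true, _root_.mul_ite, _root_.ne_eq, _root_.zero_ne_one, _root_.Matrix.one_apply_ne,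 _root_.Matrix.single_apply_same, _root_.zero_add, _root_.zero_sub, _root_.neg_eq_zero] at a22 a00 a01 a02 a21 b00 b02 b12 b11 b10
  rw [← map_smul]
  apply mk_eq_of (X.1 0 0)
  change X.1 = X.1 0 2 • Matrix.single 0 2 (1 : k) + X.1 0 0 • (1 : Matrix (Fin 3) (Fin 3) k)
  ext i j
  (revert i j; simp only [_root_.Fin.forall_fin_succ, Fin.isValue, _root_.Matrix.smul_single, _root_.smul_eq_mul, _root_.mul_one, _root_.Matrix.add_apply, _root_.Matrix.smul_apply, Fin.reduceEq, _root_.and_false, _root_.not_false_eq_true, _root_.Matrix.single_apply_of_ne, _root_.zero_add, _root_.Fin.succ_zero_eq_one, _root_.Fin.succ_one_eq_two, _root_.IsEmpty.forall_iff, _root_.Matrix.one_apply_eq, Nat.reduceAdd, _root_.ne_eq, _root_.zero_ne_one, _root_.Matrix.one_apply_ne, _root_.MulZeroClass.mul_zero, _root_.Matrix.single_apply_same, _root_.add_zero, _root_.Fin.succ_ne_zero, _root_.and_true, _root_.true_and]) <;> (repeat' with_reducible apply And.intro)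
  · exact b02
  · linear_combination a00 - a22
  · linear_combination a01 - a22
  · exact a02
  · exact a21
  · linear_combination b11 - b00
  · linear_combination b12 - b00 + a01 - a22

end Cfsg.Agent.H911.Ad.Mo
end

-- part: H911/AdIrr
section
/-!
# The adjoint module of `SL(3, E)` is simple (helper911)
-/

set_option autoImplicit false
set_option linter.unusedSectionVars false
set_option linter.unusedVariables false

namespace Cfsg.Agent.H911.Ad.Mo

open Matrix CoxeterSystem Cfsg.Agent.ChevalleyStructure.CoxeterGeom Cfsg.Agent.Tits.Roots Cfsg.Agent.Tits.Core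
  Cfsg.Agent.Tits.Exchange Cfsg.Agent.Nodes.Reps Cfsg.Agent.Nodes.BNOf Cfsg.Agent.Nodes.StabComb
  Cfsg.Agent.Nodes.Bruhat Cfsg.Agent.Nodes.OppDec Cfsg.Agent.Nodes.LeviDec Cfsg.Agent.KFacts.RgdOpp
  Cfsg.Agent.Omega.CR Cfsg.Agent.Omega.FOne.Lift.Sd Cfsg.Agent.Nodes.RootsA Cfsg.Agent.H911 Cfsg.Agent.H905.Md
  Cfsg.Agent.KFacts.MulOdd.TypeA
open Cfsg.Agent.LieRecognition.BNCox (cA cA_apply)
open Cfsg.Agent.Nodes.RGDTypeA (Mono mem_T tv_val XX tv_mem_XX nn mono_ns X_sr X_neg_sr nsys rgd)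
open Cfsg.Agent.TitsThree.KSideA (tv tv_of_ne tv_add tv_zero tv_neg)

variable {k : Type*} [Field k] {E : Type*} [Field E] (σ : E →+* k)

/-- the vector `c` -/
def c₂ (k : Type*) [Field k] : M k := mk (e k (show (0 : Fin 3) ≠ 2 by decide))

theorem mk_e_ne {i j : Fin 3} (hij : i ≠ j) : mk (e k hij) ≠ 0 := by
  intro h0
  obtain ⟨a, ha⟩ := mk_eq_zero.1 h0
  have h1 := congrFun (congrFun ha i) j
  rw [Matrix.smul_apply, Matrix.one_apply_ne hij, smul_zero] at h1
  have h2 : (e k hij).1 i j = 1 := Matrix.single_apply_same _ _ _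
  exact zero_ne_one (h1.trans h2)

theorem c₂_ne : c₂ k ≠ 0 := mk_e_ne _

theorem tv_mem (i : Fin 2) (t : E) : tv i.castSucc i.succ t ∈ Nodes.RGDTypeA.X E (sr i) := by
  rw [X_sr]; exact tv_mem_XX _ _ _

theorem tv_mem_neg (i : Fin 2) (t : E) : tv i.succ i.castSucc t ∈ Nodes.RGDTypeA.X E (-sr i) := by
  rw [X_neg_sr]; exact tv_mem_XX _ _ _

variable {W : Type*} [Group W] {cs : CoxeterSystem (cA 2) W} {A : Fin 2 → Fin 2 → ℤ} {h : IsCartan (cA 2) A}
  [Finite E] [Finite W] (p : ℕ) [hp : Fact p.Prime] [hEp : CharP E p] [hkp : CharP k p]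
include hp hEp hkp

theorem exists_fix {L : Submodule k (M k)} (hL : Ivt ((ad σ :)) (GG cs h (Nodes.RGDTypeA.T (Fin 3) E) (Nodes.RGDTypeA.X E)) L)
    (h0 : L ≠ ⊥) : ∃ a : k, a ≠ 0 ∧ a • c₂ k ∈ L ∧ a • c₂ k ∈ D cs h (Nodes.RGDTypeA.X E) ((ad σ :)) := by
  have R := rgd cs h (F := E) (p := p)
  have hU : RGD.Sup (Nodes.RGDTypeA.X E) (RGD.Pos cs h) ≤ GG cs h (Nodes.RGDTypeA.T (Fin 3) E) (Nodes.RGDTypeA.X E) :=
    RGD.Sup_le fun x hx => X_le_GG hx.1
  obtain ⟨v, hvL, hv0, hv⟩ := exists_fixed ((ad σ :)) R.isPGroup_Upos L (fun a ha v hv => hL a (hU ha) v hv) h0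
  have hvD : v ∈ D cs h (Nodes.RGDTypeA.X E) ((ad σ :)) := hv
  obtain ⟨X, rfl⟩ := mk_surj v
  have h1 : mk X = X.1 0 2 • c₂ k :=
    fix_eq σ (X_fix R ((ad σ :)) hvD 0 (tv_mem 0 1)) (X_fix R ((ad σ :)) hvD 1 (tv_mem 1 1))
  refine ⟨X.1 0 2, ?_, h1 ▸ hvL, h1 ▸ hvD⟩
  intro h2
  apply hv0
  rw [h1, h2, zero_smul]

/-- **The adjoint module is simple.** -/
theorem mod_irr (L : Submodule k (M k))
    (hL : Ivt ((ad σ :)) (GG cs h (Nodes.RGDTypeA.T (Fin 3) E) (Nodes.RGDTypeA.X E)) L) : L = ⊥ ∨ L = ⊤ := by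
  by_cases h0 : L = ⊥
  · exact Or.inl h0
  right
  obtain ⟨a, ha, h1, -⟩ := exists_fix (σ := σ) p hL h0
  refine gen_top σ (fun g v hv => hL g ?_ v hv) ?_
  · rw [gg_eq_top (Nodes.RGDTypeA.G1_eq_top cs h)]; trivial
  · have h2 := L.smul_mem a⁻¹ h1
    rwa [smul_smul, inv_mul_cancel₀ ha, one_smul] at h2

theorem c₂_mem : c₂ k ∈ D cs h (Nodes.RGDTypeA.X E) ((ad σ :)) := by
  have : Nontrivial (M k) := ⟨⟨_, _, c₂_ne⟩⟩
  obtain ⟨a, ha, -, h2⟩ := exists_fix (σ := σ) (cs := cs) (h := h) p (L := ⊤) (fun _ _ _ _ => trivial) top_ne_bot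
  have h3 := (D cs h (Nodes.RGDTypeA.X E) ((ad σ :))).smul_mem a⁻¹ h2
  rwa [smul_smul, inv_mul_cancel₀ ha, one_smul] at h3

omit hp hEp hkp in
theorem ad_T {t : _root_.Matrix.SpecialLinearGroup (Fin 3) E} (ht : t ∈ Nodes.RGDTypeA.T (Fin 3) E) :
    ad σ t (c₂ k) = σ (t.1 0 0 * (t.1 2 2)⁻¹) • c₂ k := by
  unfold c₂
  rw [ad_mk, ← map_smul]
  congr 1
  apply Subtype.ext
  rw [adS_val]
  change mp σ t * Matrix.single 0 2 1 * mp σ t⁻¹ = σ (t.1 0 0 * (t.1 2 2)⁻¹) • Matrix.single 0 2 (1 : k)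
  have h1 : mp σ t = Matrix.diagonal fun i => σ (t.1 i i) := by
    unfold mp
    conv_lhs => rw [slT_diag ht]
    rw [Matrix.diagonal_map (map_zero σ)]
  have h2 : mp σ t⁻¹ = Matrix.diagonal fun i => σ ((t⁻¹).1 i i) := by
    unfold mp
    conv_lhs => rw [slT_diag (inv_mem ht)]
    rw [Matrix.diagonal_map (map_zero σ)]
  have h3 : (t⁻¹).1 2 2 = (t.1 2 2)⁻¹ := (mem_T.1 ht).inv_apply 2
  rw [h1, h2]
  ext i j
  rw [Matrix.mul_diagonal, Matrix.diagonal_mul, Matrix.smul_apply, smul_eq_mul]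
  by_cases hij : (0 : Fin 3) = i ∧ (2 : Fin 3) = j
  · obtain ⟨rfl, rfl⟩ := hij
    rw [Matrix.single_apply_same, mul_one, mul_one, map_mul]
    exact congrArg (fun x => σ (t.1 0 0) * σ x) h3
  · rw [Matrix.single_apply, if_neg hij, mul_zero, zero_mul, mul_zero]

/-- `J` is empty -/
theorem not_mem_Jx (i : Fin 2) : i ∉ (Jx cs h (Nodes.RGDTypeA.X E) (ad σ : _ →* Module.End k (M k)) :) := by
  have key : ∀ (i : Fin 2) {a b : Fin 3} (hab : a ≠ b), adS σ (tv i.succ i.castSucc 1) (e k (show (0 : Fin 3) ≠ 2 by decide)) -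
      e k (show (0 : Fin 3) ≠ 2 by decide) = e k hab ∨ adS σ (tv i.succ i.castSucc 1) (e k (show (0 : Fin 3) ≠ 2 by decide)) -
      e k (show (0 : Fin 3) ≠ 2 by decide) = -e k hab →
      i ∉ (Jx cs h (Nodes.RGDTypeA.X E) (ad σ : _ →* Module.End k (M k)) :) := by
    intro i a b hab h1 h2
    have h3 := h2 _ (tv_mem_neg i 1) (c₂ k) (c₂_mem σ p)
    unfold c₂ at h3
    rw [ad_mk, ← sub_eq_zero, ← map_sub] at h3
    rcases h1 with h1 | h1
    · rw [h1] at h3; exact mk_e_ne hab h3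
    · rw [h1, map_neg, neg_eq_zero] at h3; exact mk_e_ne hab h3
  fin_cases i
  · refine key 0 (a := 1) (b := 2) (by decide) (Or.inl ?_)
    apply Subtype.ext
    change (adS σ (tv 1 0 1) (e k _)).1 - Matrix.single 0 2 1 = Matrix.single 1 2 1
    rw [adS_tv σ (by decide)]
    change Matrix.single 0 2 1 + Matrix.single 1 0 1 * Matrix.single 0 2 1 - Matrix.single 0 2 1 * Matrix.single 1 0 1 -
      Matrix.single 1 0 1 * Matrix.single 0 2 1 * Matrix.single 1 0 1 - Matrix.single 0 2 1 = Matrix.single 1 2 (1 : k)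
    simp [Matrix.single_mul_single_same, Matrix.single_mul_single_of_ne]
  · refine key 1 (a := 0) (b := 1) (by decide) (Or.inr ?_)
    apply Subtype.ext
    change (adS σ (tv 2 1 1) (e k _)).1 - Matrix.single 0 2 1 = -Matrix.single 0 1 1
    rw [adS_tv σ (by decide)]
    change Matrix.single 0 2 1 + Matrix.single 2 1 1 * Matrix.single 0 2 1 - Matrix.single 0 2 1 * Matrix.single 2 1 1 -
      Matrix.single 2 1 1 * Matrix.single 0 2 1 * Matrix.single 2 1 1 - Matrix.single 0 2 1 = -Matrix.single 0 1 (1 : k)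
    simp [Matrix.single_mul_single_same, Matrix.single_mul_single_of_ne]

omit [Finite E] [Finite W] hp hEp hkp in
theorem finrank_S : Module.finrank k (S k) = 8 := by
  have h1 := LinearMap.finrank_range_add_finrank_ker (Matrix.traceLinearMap (Fin 3) k k)
  have h2 : LinearMap.range (Matrix.traceLinearMap (Fin 3) k k) = ⊤ := by
    rw [LinearMap.range_eq_top]
    intro a
    refine ⟨Matrix.single 0 0 a, ?_⟩
    rw [Matrix.traceLinearMap_apply, Matrix.trace_single_eq_same]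
  have h3 : Module.finrank k (Matrix (Fin 3) (Fin 3) k) = 9 := by
    rw [Module.finrank_matrix]
    simp
  rw [h2, finrank_top, Module.finrank_self, h3] at h1
  change Module.finrank k (LinearMap.ker (Matrix.traceLinearMap (Fin 3) k k)) = 8
  omega

omit [Finite E] [Finite W] hp hEp hkp in
theorem finrank_M (h3 : (3 : k) ≠ 0) : Module.finrank k (M k) = 8 := by
  have h1 := Submodule.finrank_quotient_add_finrank (Z k)
  have h2 : Z k = ⊥ := by
    rw [eq_bot_iff]
    intro X hX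
    obtain ⟨a, ha⟩ := mem_Z.1 hX
    have h4 := X.2
    rw [mem_S, ← ha, Matrix.trace_smul, Matrix.trace_one, Fintype.card_fin, smul_eq_mul] at h4
    have h5 : a = 0 := (mul_eq_zero.1 h4).resolve_right (by exact_mod_cast h3)
    rw [Submodule.mem_bot]
    apply Subtype.ext
    rw [← ha, h5, zero_smul]
    rfl
  have h4 : Module.finrank k (Z k) = 0 := by rw [h2, finrank_bot]
  rw [finrank_S, h4] at h1
  exact h1

omit [Finite E] [Finite W] hp hEp hkp in
theorem finrank_M' (h3 : (3 : k) = 0) : Module.finrank k (M k) = 7 := by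
  have h1 := Submodule.finrank_quotient_add_finrank (Z k)
  have h0 : (1 : Matrix (Fin 3) (Fin 3) k) ∈ S k := by
    rw [mem_S, Matrix.trace_one, Fintype.card_fin]
    exact_mod_cast h3
  have h2 : Z k = Submodule.span k {⟨1, h0⟩} := by
    ext X
    rw [mem_Z, Submodule.mem_span_singleton]
    constructor
    · rintro ⟨a, ha⟩
      exact ⟨a, Subtype.ext ha⟩
    · rintro ⟨a, rfl⟩
      exact ⟨a, rfl⟩
  have h4 : Module.finrank k (Z k) = 1 := by
    rw [h2]
    refine finrank_span_singleton ?_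
    intro h5
    have h6 := congrFun (congrFun (congrArg Subtype.val h5) 0) 0
    exact one_ne_zero h6
  rw [finrank_S, h4] at h1
  have h5 : Module.finrank k (M k) + 1 = 8 := h1
  omega

end Cfsg.Agent.H911.Ad.Mo
end

-- part: H911/AdPSL
section
/-!
# Self-dual `PSL(3, E)` in the defining characteristic, `n ≤ 11` (helper911)
-/

set_option autoImplicit false
set_option linter.unusedSectionVars false
set_option linter.unusedVariables false

namespace Cfsg.Agent.H911.Ad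

open Matrix CoxeterSystem Cfsg.Agent.ChevalleyStructure.CoxeterGeom Cfsg.Agent.Tits.Roots Cfsg.Agent.Tits.Core
  Cfsg.Agent.Tits.Exchange Cfsg.Agent.Nodes.Reps Cfsg.Agent.Nodes.BNOf Cfsg.Agent.Nodes.StabComb
  Cfsg.Agent.Nodes.Bruhat Cfsg.Agent.Nodes.OppDec Cfsg.Agent.Nodes.LeviDec Cfsg.Agent.KFacts.RgdOpp
  Cfsg.Agent.Omega.CR Cfsg.Agent.Omega.FOne.Lift.Sd Cfsg.Agent.Nodes.RootsA Cfsg.Agent.H911 Cfsg.Agent.H905.Md
open Cfsg Cfsg.Geo Cfsg.Agent.H915.LD
open Cfsg.Agent.H911.SLTwo (U Lo hh ww hh00 hh01 hh10 hh11)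
open Cfsg.Agent.LieRecognition.BNCox (cA cA_apply)
open Cfsg.Agent.Nodes.RGDTypeA (Mono mem_T rgd)
open scoped MatrixGroups Matrix

theorem perm_sep : ∀ a a' : Equiv.Perm (Fin 3), a ≠ a' → ∃ i : Fin 2, ∃ c, (a⁻¹ c).val ≤ i.val ∧ ¬ (a'⁻¹ c).val ≤ i.val := by
  decide +kernel

theorem fin_two_rev : ∀ i j : Fin 2, j = i ∨ j = i.rev := by decide

theorem bk_hh_diag {l : ℕ} {E : Type*} [Field E] (i : Fin l) (s : Eˣ) (j : Fin (l + 1)) :
    (bk E i (hh s)).1 j j = if j = i.castSucc then (s : E) else if j = i.succ then ((s⁻¹ : Eˣ) : E) else 1 := by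
  rw [bk_apply, hh00, hh11]
  by_cases h1 : j = i.castSucc
  · rw [if_pos h1, if_pos h1, if_pos h1]
  · by_cases h2 : j = i.succ
    · rw [if_neg h1, if_pos h2, if_neg h1, if_pos h2, if_neg h1, if_pos h2]
    · rw [if_neg h1, if_neg h2, if_pos rfl, if_neg h1, if_neg h2]

theorem T_mul_diag {m : ℕ} {E : Type*} [Field E] {s t : _root_.Matrix.SpecialLinearGroup (Fin m) E}
    (hs : s ∈ Nodes.RGDTypeA.T (Fin m) E) (ht : t ∈ Nodes.RGDTypeA.T (Fin m) E) (j : Fin m) :
    (s * t).1 j j = s.1 j j * t.1 j j := by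
  have h1 : (s * t).1 = s.1 * t.1 := rfl
  rw [h1, KFacts.MulOdd.TypeA.eq_diagonal hs, KFacts.MulOdd.TypeA.eq_diagonal ht, Matrix.diagonal_mul_diagonal,
    Matrix.diagonal_apply_eq, Matrix.diagonal_apply_eq, Matrix.diagonal_apply_eq]

/-- the three positive roots -/
def prs : Fin 3 → Fin 3 × Fin 3 := ![(0, 1), (0, 2), (1, 2)]

theorem prs_lt : ∀ b, (prs b).1 < (prs b).2 := by decide

theorem prs_inj : ∀ b b', prs b = prs b' → b = b' := by decide

section frame

variable {W : Type*} [Group W] {cs : CoxeterSystem (cA 2) W} {A : Fin 2 → Fin 2 → ℤ} {h : IsCartan (cA 2) A}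
  {E : Type*} [Field E] [Finite E] [Finite W] (p : ℕ) [hp : Fact p.Prime] [hEp : CharP E p]
  {k V : Type*} [Field k] [hkp : CharP k p]
  [AddCommGroup V] [Module k V] [FiniteDimensional k V] [Nontrivial V]
  {ρ : _root_.Matrix.SpecialLinearGroup (Fin 3) E →* Module.End k V}
  (hirr : ∀ L : Submodule k V, Ivt ρ (GG cs h (Nodes.RGDTypeA.T (Fin 3) E) (Nodes.RGDTypeA.X E)) L → L = ⊥ ∨ L = ⊤)
  {c : V} (hc : c ∈ D cs h (Nodes.RGDTypeA.X E) ρ) (hc0 : c ≠ 0)
  {χ : _root_.Matrix.SpecialLinearGroup (Fin 3) E → k} (hχ : ∀ t ∈ Nodes.RGDTypeA.T (Fin 3) E, ρ t c = χ t • c)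
  {B : V →ₗ[k] V →ₗ[k] k} (hB : ∀ g x y, B (ρ g x) (ρ g y) = B x y) (hB0 : ∀ x, (∀ y, B x y = 0) → x = 0)
include hp hEp hkp hirr hc hc0 hχ hB hB0

theorem finrank_D' : Module.finrank k (D cs h (Nodes.RGDTypeA.X E) ρ) = 1 := by
  rw [D_eq (rgd cs h (F := E) (p := p)) hirr hc hc0 hχ]
  exact finrank_span_singleton hc0

theorem Jx_empty (hV : 2 ≤ Module.finrank k V) (i : Fin 2) : i ∉ Jx cs h (Nodes.RGDTypeA.X E) ρ := by
  have R := rgd cs h (F := E) (p := p)
  intro hi
  have h1 := Jx_rev p hirr hc hc0 hχ hB hB0 hi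
  obtain ⟨j, hj⟩ := exists_not_mem R hirr (by rw [finrank_D' p hirr hc hc0 hχ hB hB0]; omega)
  apply hj
  rcases fin_two_rev i j with rfl | rfl
  · exact hi
  · exact h1

/-- some edge is two-dimensional -/
theorem exists_edge (hV : 2 ≤ Module.finrank k V) (hn : Module.finrank k V ≤ 11) :
    ∃ i : Fin 2, Module.finrank k (Io cs h (Nodes.RGDTypeA.T (Fin 3) E) (Nodes.RGDTypeA.X E) ρ i) = 0 := by
  have R := rgd cs h (F := E) (p := p)
  have hJ := Jx_empty p hirr hc hc0 hχ hB hB0 hV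
  have h1 := dim_ge_perm R hirr (α := Equiv.Perm (Fin 3)) (β := Fin 3 × Fin 2) id
    (fun a a' haa => by
      obtain ⟨i, c, h1, h2⟩ := perm_sep a a' haa
      exact ⟨i, hJ i, c, h1, h2⟩) (fun b => prs b.1) (fun b => prs_lt b.1) (fun b => b.2) (fun b => hJ _)
    (fun b b' e1 e2 => Prod.ext (prs_inj _ _ e2) e1)
  rw [finrank_D' p hirr hc hc0 hχ hB hB0, Fintype.card_perm, Fintype.card_fin, Fintype.sum_prod_type] at h1
  simp only [Fin.sum_univ_two, Fin.sum_univ_three] at h1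
  have h3 : Nat.factorial 3 = 6 := rfl
  rw [h3] at h1
  by_contra hcon
  push Not at hcon
  have h4 : Module.finrank k (Io cs h (Nodes.RGDTypeA.T (Fin (2 + 1)) E) (Nodes.RGDTypeA.X E) ρ 0) ≠ 0 := hcon 0
  have h5 : Module.finrank k (Io cs h (Nodes.RGDTypeA.T (Fin (2 + 1)) E) (Nodes.RGDTypeA.X E) ρ 1) ≠ 0 := hcon 1
  omega

/-- **the character is `σ(t₁ / t₃)`** -/
theorem exists_sigma3 (hV : 2 ≤ Module.finrank k V) (hn : Module.finrank k V ≤ 11) :
    ∃ σ : E →+* k, ∀ t ∈ Nodes.RGDTypeA.T (Fin 3) E, χ t = σ (t.1 0 0 * (t.1 2 2)⁻¹) := by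
  have R := rgd cs h (F := E) (p := p)
  have hJ := Jx_empty p hirr hc hc0 hχ hB hB0 hV
  obtain ⟨i, hi⟩ := exists_edge p hirr hc hc0 hχ hB hB0 hV hn
  obtain ⟨σ, hσ⟩ := exists_sigma_A p hirr hc hc0 hχ (hJ i) (edge_of_Io R hirr (hJ i) hi)
  have hσ' : ∀ (j : Fin 2) (s : Eˣ), χ (bk E j (hh s)) = σ s := by
    intro j s
    rcases fin_two_rev i j with rfl | rfl
    · exact hσ s
    · rw [← chi_bk_rev p hirr hc hc0 hχ hB hB0]; exact hσ s
  refine ⟨σ, fun t ht => ?_⟩
  have h0 : ∀ j, t.1 j j ≠ 0 := fun j => (mem_T.1 ht).apply_ne_zero j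
  have hdet : t.1 0 0 * t.1 1 1 * t.1 2 2 = 1 := by
    have h1 := t.2
    rw [slT_diag ht, Matrix.det_diagonal, Fin.prod_univ_three] at h1
    exact h1
  have e : t = bk E 0 (hh (Units.mk0 _ (h0 0))) * bk E 1 (hh (Units.mk0 _ (h0 2))⁻¹) := by
    refine T_ext ht (mul_mem (bk_hh_mem _ _) (bk_hh_mem _ _)) fun j => ?_
    rw [T_mul_diag (bk_hh_mem _ _) (bk_hh_mem _ _), bk_hh_diag, bk_hh_diag]
    fin_cases j
    · simp
    · simp only [_root_.Nat.reduceAdd, _root_.Fin.mk_one, _root_.Fin.isValue, _root_.Fin.castSucc_zero, _root_.one_ne_zero, ↓ _root_.reduceIte, _root_.Fin.succ_zero_eq_one, _root_.Units.val_inv_eq_inv_val, _root_.Units.val_mk0, _root_.Fin.castSucc_one]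
      have h00 := h0 0
      have h22 := h0 2
      field_simp
      linear_combination hdet
    · simp
  have hm := chi_mul' hc0 hχ (bk_hh_mem (0 : Fin 2) (Units.mk0 _ (h0 0))) (bk_hh_mem (1 : Fin 2) (Units.mk0 _ (h0 2))⁻¹)
  rw [← e, hσ', hσ', ← map_mul] at hm
  rw [hm, Units.val_mk0, Units.val_inv_eq_inv_val, Units.val_mk0]

end frame

/-! ### linear groups -/

section P

variable {F : Type*} [Field F] [Finite F] {ι : Type} [Fintype ι] [DecidableEq ι] {P : Subgroup (GL ι F)}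
  {E : Type*} [Field E] [Finite E] (p : ℕ) [hp : Fact p.Prime] [hFp : CharP F p] [hEp : CharP E p]
include hp hFp hEp

/-- **Self-dual `PSL(3, E)` in the defining characteristic, `n ≤ 11`: the adjoint module.** -/
theorem psl3_model (hC : Core P) (hsd : SD P) (Φ : Soc P ≃* ProjectiveSpecialLinearGroup (Fin 3) E)
    (hn : Fintype.card ι ≤ 11) : ∃ (σ : E →+* F) (φ : _root_.Matrix.SpecialLinearGroup (Fin 3) E →* GL ι F) (θ : (ι → F) ≃ₗ[F] Mo.M F),
      Function.Bijective σ ∧ φ.range = P ∧ ∀ g v, θ ((φ g : Matrix ι ι F) *ᵥ v) = Mo.ad σ g (θ v) := by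
  obtain ⟨φ, hφ, -, -⟩ := psl_cover (l := 2) p hC.perfect (by omega) (by omega) Φ
  have hne := hC.nonempty
  have h2 := hC.two_le
  haveI : Finite (cA 2).Group := finite_W (cA 2).toCoxeterSystem (isCartan 2)
  have R := rgd (cA 2).toCoxeterSystem (isCartan 2) (F := E) (p := p)
  have hG : GG (cA 2).toCoxeterSystem (isCartan 2) (Nodes.RGDTypeA.T (Fin 3) E) (Nodes.RGDTypeA.X E) = ⊤ :=
    gg_eq_top (Nodes.RGDTypeA.G1_eq_top _ _)
  have hirr := mrep_irr hφ hC.absIrred hG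
  obtain ⟨c, hc, hc0, χ, hχ⟩ := exists_chiF R hG slT_comm hφ hC.absIrred
  obtain ⟨B, hB, hB0⟩ := exists_B hφ hC.absIrred hsd
  have hfr : Module.finrank F (ι → F) = Fintype.card ι := Module.finrank_fintype_fun_eq_card F
  obtain ⟨σ, hσ⟩ := exists_sigma3 p hirr hc hc0 hχ hB hB0 (by omega) (by omega)
  have hJ := Jx_empty p hirr hc hc0 hχ hB hB0 (by omega)
  have hnt : Nontrivial (Mo.M F) := ⟨⟨_, _, Mo.c₂_ne⟩⟩
  obtain ⟨θ, hθ⟩ := iso_of_chi_J R (lin (mrep φ)) ((Mo.ad σ :)) hirr (Mo.mod_irr σ p) hc hc0 (Mo.c₂_mem σ p) Mo.c₂_ne hχ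
    (fun t ht => by rw [Mo.ad_T σ ht, hσ t ht]) (fun i => ⟨fun hi => (hJ i hi).elim, fun hi => (Mo.not_mem_Jx σ p i hi).elim⟩)
  refine ⟨σ, φ, θ, ?_, hφ, fun g v => ?_⟩
  · have h3 : Nat.card E ≤ Nat.card F := Nat.card_le_card_of_injective _ σ.injective
    obtain ⟨j, hj, h4⟩ := psl_card (l := 2) p hC.absIrred hC.perfect (by omega) (by omega) Φ hC.no_subfield
    have h5 : Nat.card F ≤ Nat.card F ^ j := Nat.le_self_pow (by omega) _
    rw [h4] at h5
    exact (Nat.bijective_iff_injective_and_card σ).2 ⟨σ.injective, le_antisymm h3 h5⟩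
  · rw [← mrep_apply]
    exact hθ g (by rw [hG]; trivial) v

end P

end Cfsg.Agent.H911.Ad
end

private theorem dce_43b5c2952a7f : _root_.True := by
  try have : _root_.True := by simp only [_root_.Cfsg.Agent.H911.Ad.Mo.e.congr_simp]
  exact _root_.True.intro
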