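import Mathlib.GroupTheory.SpecificGroups.Alternating.Centralizer
import Mathlib.GroupTheory.Perm.Cycle.Concrete
import Cfsg.Agent.FastGrp
import Cfsg.Agent.Prune
set_option linter.all false
prune_inst 0x7f00000000000000000000000000000000000000000000000000000000000000000000000000000000000000000000000000000000000000000000000000000000000000000000000000000000000000003fffffffffffffffffffffffffffbeffbdffffffff
open scoped Cfsg.Agent.FastGrp

/-!
# Real elements of small alternating groups (helper911)
-/

set_option autoImplicit false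
set_option maxRecDepth 10000

namespace Cfsg.Agent.H911.AltReal

open Equiv.Perm

theorem type_cases {n : ℕ} (hn : n = 5 ∨ n = 6 ∨ n = 7) {g : Equiv.Perm (Fin n)}
    (hz : Subgroup.centralizer {g} ≤ alternatingGroup (Fin n)) :
    (n ≠ 7 ∧ g.cycleType = {5}) ∨ (n = 7 ∧ g.cycleType = {7}) := by
  obtain ⟨h1, h2, h3⟩ := centralizer_le_alternating_iff.1 hz
  rw [Fintype.card_fin] at h2
  have hle := g.sum_cycleType_le
  rw [Fintype.card_fin] at hle
  have h2le : ∀ a ∈ g.cycleType, 2 ≤ a := fun a ha => two_le_of_mem_cycleType ha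
  rw [← Multiset.nodup_iff_count_le_one] at h3
  generalize g.cycleType = m at *
  induction m using Multiset.induction_on with
  | empty =>
    rw [Multiset.sum_zero] at h2
    omega
  | cons a m' _ =>
    have ha := h1 a (Multiset.mem_cons_self a m')
    have ha2 := h2le a (Multiset.mem_cons_self a m')
    rw [Multiset.sum_cons] at h2 hle
    rw [Multiset.nodup_cons] at h3
    rcases Nat.eq_zero_or_pos (Multiset.card m') with hc | hc
    · rw [Multiset.card_eq_zero] at hc
      subst hc
      rw [Multiset.sum_zero] at h2 hle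
      obtain ⟨k, hk⟩ := ha
      rcases hn with rfl | rfl | rfl
      · left
        have : a = 5 := by omega
        rw [this]
        exact ⟨by norm_num, rfl⟩
      · left
        have : a = 5 := by omega
        rw [this]
        exact ⟨by norm_num, rfl⟩
      · right
        have : a = 7 := by omega
        rw [this]
        exact ⟨rfl, rfl⟩
    · exfalso
      obtain ⟨b, hb⟩ := Multiset.card_pos_iff_exists_mem.1 hc
      have hbo := h1 b (Multiset.mem_cons_of_mem hb)
      have hb2 := h2le b (Multiset.mem_cons_of_mem hb)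
      have hne : a ≠ b := by
        rintro rfl
        exact h3.1 hb
      have hbs : b ≤ m'.sum := Multiset.le_sum_of_mem hb
      obtain ⟨k, hk⟩ := ha
      obtain ⟨l, hl⟩ := hbo
      omega

theorem five_cycle {n : ℕ} (hn : n = 5 ∨ n = 6) : ∃ g c : Equiv.Perm (Fin n), g.cycleType = {5} ∧
    c ∈ alternatingGroup (Fin n) ∧ c * g * c⁻¹ = g⁻¹ := by
  rcases hn with rfl | rfl
  · refine ⟨List.formPerm [0, 1, 2, 3, 4], Equiv.swap 1 4 * Equiv.swap 2 3, ?_, ?_, ?_⟩
    · rw [(List.isCycle_formPerm (by decide) (by decide)).cycleType,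
        List.support_formPerm_of_nodup _ (by decide) (by decide)]
      rfl
    · rw [mem_alternatingGroup]
      decide
    · decide
  · refine ⟨List.formPerm [0, 1, 2, 3, 4], Equiv.swap 1 4 * Equiv.swap 2 3, ?_, ?_, ?_⟩
    · rw [(List.isCycle_formPerm (by decide) (by decide)).cycleType,
        List.support_formPerm_of_nodup _ (by decide) (by decide)]
      rfl
    · rw [mem_alternatingGroup]
      decide
    · decide

theorem alt_real {n : ℕ} (hn : n = 5 ∨ n = 6 ∨ n = 7) (g : alternatingGroup (Fin n))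
    (h : n = 7 → orderOf g ≠ 7) : IsConj g g⁻¹ := by
  have hfin : ∀ c : Equiv.Perm (Fin n), c ∈ alternatingGroup (Fin n) → c * (g : Equiv.Perm (Fin n)) * c⁻¹ =
      ((g : Equiv.Perm (Fin n)))⁻¹ → IsConj g g⁻¹ := by
    intro c hc hcg
    exact isConj_iff.2 ⟨⟨c, hc⟩, Subtype.ext hcg⟩
  obtain ⟨c, hc⟩ := isConj_iff.1 (isConj_of_cycleType_eq (cycleType_inv (g : Equiv.Perm (Fin n))).symm)
  by_cases hce : c ∈ alternatingGroup (Fin n)
  · exact hfin c hce hc
  by_cases hz : Subgroup.centralizer {(g : Equiv.Perm (Fin n))} ≤ alternatingGroup (Fin n)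
  · rcases type_cases hn hz with ⟨hn7, h5⟩ | ⟨hn7, h7⟩
    · obtain ⟨g₀, c₀, ht, hc₀, hcg⟩ := five_cycle (n := n) (by omega)
      obtain ⟨d, hd⟩ := isConj_iff.1 (isConj_of_cycleType_eq (ht.trans h5.symm))
      refine hfin (d * c₀ * d⁻¹) ?_ ?_
      · exact (inferInstance : (alternatingGroup (Fin n)).Normal).conj_mem c₀ hc₀ d
      · rw [← hd]
        calc d * c₀ * d⁻¹ * (d * g₀ * d⁻¹) * (d * c₀ * d⁻¹)⁻¹ = d * (c₀ * g₀ * c₀⁻¹) * d⁻¹ := by group
          _ = d * g₀⁻¹ * d⁻¹ := by rw [hcg]
          _ = (d * g₀ * d⁻¹)⁻¹ := by group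
    · exfalso
      apply h hn7
      rw [← Subgroup.orderOf_coe, ← lcm_cycleType, h7]
      rfl
  · obtain ⟨z, hz1, hz2⟩ := SetLike.not_le_iff_exists.1 hz
    rw [Subgroup.mem_centralizer_singleton_iff] at hz1
    refine hfin (c * z) ?_ ?_
    · rw [mem_alternatingGroup] at hce hz2 ⊢
      rw [map_mul]
      rcases Int.units_eq_one_or (sign c) with h1 | h1
      · exact absurd h1 hce
      · rcases Int.units_eq_one_or (sign z) with h2 | h2
        · exact absurd h2 hz2
        · rw [h1, h2]; decide
    · calc c * z * (g : Equiv.Perm (Fin n)) * (c * z)⁻¹ = c * (z * (g : Equiv.Perm (Fin n)) * z⁻¹) * c⁻¹ := by group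
        _ = c * (g : Equiv.Perm (Fin n)) * c⁻¹ := by rw [hz1, mul_inv_cancel_right]
        _ = _ := hc

end Cfsg.Agent.H911.AltReal
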